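/-
The presented Fischer group Fi22 on 3510 points: two exact stabilizer chains (bases along a cycle of the
element `y` of order 13, and along a cycle of the element `u` of order 6), the word equality test.
-/
import Cfsg.Agent.Lib.Helper28.Fi22Out.ChainY
import Cfsg.Agent.Lib.Helper28.Fi22Out.ChainU
import Cfsg.Agent.Lib.Helper28.Fi22Out.Words
import Cfsg.Agent.Lib.Helper28.Fi22Ord.Order
import Cfsg.Agent.Lib.Helper28.Sift.Build

set_option autoImplicit false
set_option maxRecDepth 100000

namespace Cfsg.Agent.Lib.Helper28.Fi22Out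

open Cfsg.Spor.Fi22 (Gen)
open Cfsg.Agent.Lib.Helper28.TC
open Cfsg.Agent.Lib.Helper28.Ord
open Cfsg.Agent.Lib.Helper28.Sift
open Cfsg.Agent.Lib.Helper28.Fi22x3510 (tf nn rels T hrel hinv nn_pos)
open Cfsg.Agent.Lib.Helper28.Fi22Ord (phi phi_injective card_Fi22 finite_Fi22)

noncomputable section

/-- the presented Fischer group -/
abbrev GF : Type := PresentedGroup rels

instance finite_GF : Finite GF := finite_Fi22

/-- the element of a word -/
def we (w : List Gen) : GF := wval (pval rels) w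

theorem we_nil : we [] = 1 := rfl

theorem we_append (w₁ w₂ : List Gen) : we (w₁ ++ w₂) = we w₁ * we w₂ := wval_append _ _ _

theorem we_reverse (w : List Gen) : we w.reverse = (we w)⁻¹ := wval_reverse (pval rels) hinv w

/-- the chain along the cycle of `y` -/
def LsY : List (Level Gen) :=
  [⟨cyW1, cyO1⟩, ⟨cyW2, cyO2⟩, ⟨cyW3, cyO3⟩, ⟨cyW4, cyO4⟩, ⟨cyW5, cyO5⟩, ⟨cyW6, cyO6⟩]

/-- the chain along the cycle of `u` -/
def LsU : List (Level Gen) :=
  [⟨cuW1, cuO1⟩, ⟨cuW2, cuO2⟩, ⟨cuW3, cuO3⟩, ⟨cuW4, cuO4⟩, ⟨cuW5, cuO5⟩, ⟨cuW6, cuO6⟩]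

theorem hokY : ∀ L ∈ LsY, LevelOK T L := by
  intro L hL
  simp only [LsY, List.mem_cons, List.not_mem_nil, or_false] at hL
  rcases hL with rfl | rfl | rfl | rfl | rfl | rfl
  · exact ⟨cy1_rootlt, cy1_root, cyP1_all⟩
  · exact ⟨cy2_rootlt, cy2_root, cyP2_all⟩
  · exact ⟨cy3_rootlt, cy3_root, cyP3_all⟩
  · exact ⟨cy4_rootlt, cy4_root, cyP4_all⟩
  · exact ⟨cy5_rootlt, cy5_root, cyP5_all⟩
  · exact ⟨cy6_rootlt, cy6_root, cyP6_all⟩

theorem hokU : ∀ L ∈ LsU, LevelOK T L := by
  intro L hL
  simp only [LsU, List.mem_cons, List.not_mem_nil, or_false] at hL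
  rcases hL with rfl | rfl | rfl | rfl | rfl | rfl
  · exact ⟨cu1_rootlt, cu1_root, cuP1_all⟩
  · exact ⟨cu2_rootlt, cu2_root, cuP2_all⟩
  · exact ⟨cu3_rootlt, cu3_root, cuP3_all⟩
  · exact ⟨cu4_rootlt, cu4_root, cuP4_all⟩
  · exact ⟨cu5_rootlt, cu5_root, cuP5_all⟩
  · exact ⟨cu6_rootlt, cu6_root, cuP6_all⟩

theorem card_range : Nat.card phi.range = 64561751654400 := by
  rw [← card_Fi22]
  exact Nat.card_congr (Equiv.ofInjective phi phi_injective).symm

theorem fixY : fixOKL T.tf LsY = true := by decide +kernel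
theorem fixU : fixOKL T.tf LsU = true := by decide +kernel
theorem sizesY : sizesOf nn 12 LsY = [3510, 2816, 567, 96, 30, 4] := by decide +kernel
theorem sizesU : sizesOf nn 12 LsU = [3510, 2816, 1680, 108, 9, 4] := by decide +kernel

theorem hexY : ExactChain (chainOf T nn_pos LsY) phi.range := by
  apply exactChain_of_levels T nn_pos LsY phi.range
    (fun L _ => closure_wordPerms_le_range T hrel L.words) hokY fixY 12 (by decide)
  rw [card_range, sizesY]
  decide

theorem hexU : ExactChain (chainOf T nn_pos LsU) phi.range := by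
  apply exactChain_of_levels T nn_pos LsU phi.range
    (fun L _ => closure_wordPerms_le_range T hrel L.words) hokU fixU 12 (by decide)
  rw [card_range, sizesU]
  decide

/-- the word acts trivially on the base of the second chain -/
def isId (w : List Gen) : Bool := isIdL tf LsU w

theorem isId_iff (w : List Gen) : isId w = true ↔ we w = 1 :=
  isIdL_iff T hrel phi_injective nn_pos LsU hokU hexU w

/-- word equality test -/
def wEq (w₁ w₂ : List Gen) : Bool := isId (w₂.reverse ++ w₁)

theorem wEq_iff (w₁ w₂ : List Gen) : wEq w₁ w₂ = true ↔ we w₁ = we w₂ := by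
  unfold wEq
  rw [isId_iff, we_append, we_reverse, inv_mul_eq_one, eq_comm]

theorem rootsY : LsY.map (fun L => L.O.root) = orbList tf yw 6 0 := by decide +kernel
theorem rootsU : LsU.map (fun L => L.O.root) = orbList tf uw 6 105 := by decide +kernel

end

end Cfsg.Agent.Lib.Helper28.Fi22Out
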