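/-
Kernel checks for the centralizer of the element `y` of order 13 of the presented Fischer group Fi22.
-/
import Cfsg.Agent.Lib.Helper28.Fi22Out.Base

set_option autoImplicit false
set_option maxRecDepth 100000

namespace Cfsg.Agent.Lib.Helper28.Fi22Out

open Cfsg.Spor.Fi22 (Gen)
open Cfsg.Agent.Lib.Helper28.TC
open Cfsg.Agent.Lib.Helper28.Ord
open Cfsg.Agent.Lib.Helper28.Sift
open Cfsg.Agent.Lib.Helper28.Fi22x3510 (tf nn rels T hrel hinv nn_pos)
open Cfsg.Agent.Lib.Helper28.Fi22Ord (phi phi_injective card_Fi22 finite_Fi22)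

noncomputable section
/-- the element of order 13 -/
def yE : GF := we yw

/-- the test for the centralizer of `y`: the word does not commute with `y`, or is a power of `y` -/
def PY (w : List Gen) : Bool :=
  bor (bnot (wEq (w ++ yw) (yw ++ w))) (anyList (fun k => wEq w (wrep k yw)) (List.range 13))

def chkY (q : ℕ) : Bool := siftP tf PY LsY (orbList tf yw 6 q) []

theorem chkY_blk0 : allRange (guard nn chkY) 10 (0 * 2 ^ 10) = true := by decide +kernel
theorem chkY_blk1 : allRange (guard nn chkY) 10 (1 * 2 ^ 10) = true := by decide +kernel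
theorem chkY_blk2 : allRange (guard nn chkY) 10 (2 * 2 ^ 10) = true := by decide +kernel
theorem chkY_blk3 : allRange (guard nn chkY) 10 (3 * 2 ^ 10) = true := by decide +kernel

theorem chkY_all : ∀ i, i < nn → chkY i = true := by
  refine all_of_blocks nn chkY 10 4 (by decide) ?_
  intro k hk
  interval_cases k
  · exact chkY_blk0
  · exact chkY_blk1
  · exact chkY_blk2
  · exact chkY_blk3

/-- the test for conjugators of `y` to `y²` -/
def PY2 (w : List Gen) : Bool := bnot (wEq (w ++ yw) (yw ++ yw ++ w))

def chkY2 (q : ℕ) : Bool := siftP tf PY2 LsY (orbList tf (yw ++ yw) 6 q) []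

theorem chkY2_blk0 : allRange (guard nn chkY2) 10 (0 * 2 ^ 10) = true := by decide +kernel
theorem chkY2_blk1 : allRange (guard nn chkY2) 10 (1 * 2 ^ 10) = true := by decide +kernel
theorem chkY2_blk2 : allRange (guard nn chkY2) 10 (2 * 2 ^ 10) = true := by decide +kernel
theorem chkY2_blk3 : allRange (guard nn chkY2) 10 (3 * 2 ^ 10) = true := by decide +kernel

theorem chkY2_all : ∀ i, i < nn → chkY2 i = true := by
  refine all_of_blocks nn chkY2 10 4 (by decide) ?_
  intro k hk
  interval_cases k
  · exact chkY2_blk0
  · exact chkY2_blk1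
  · exact chkY2_blk2
  · exact chkY2_blk3

theorem y13_chk : isId (wrep 13 yw) = true := by decide +kernel

theorem y_ne_chk : isId yw = false := by decide +kernel

/-- the element of order 6 normalizing `y` -/
def uE : GF := we uw

theorem uyu_chk : wEq (uw ++ yw ++ uw.reverse) (wrep 4 yw) = true := by decide +kernel

end

end Cfsg.Agent.Lib.Helper28.Fi22Out
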