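/-
Data for the rigidity of the triple `(y, u, s)` of the presented Fischer group Fi22: for every
generator `x` a word `g` in `y, u, s, y⁻¹, u⁻¹, s⁻¹` (letters 0-5) with `x = g (y s)¹¹ g⁻¹`, and the
images of the generators under an outer automorphism.
-/
import Cfsg.Agent.Lib.Helper28.Fi22x3510.Defs

set_option autoImplicit false
set_option maxRecDepth 100000

namespace Cfsg.Agent.Lib.Helper28.Fi22Out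

open Cfsg.Spor.Fi22 (Gen)

noncomputable section

def conjW0 : List ℕ := [1, 0, 4, 2, 3, 5]

def conjW1 : List ℕ := [3, 5, 4, 3, 5, 0, 5]

def conjW2 : List ℕ := [5, 4, 3, 5, 0, 5]

def conjW3 : List ℕ := [0, 5, 4, 3, 5, 0, 5]

def conjW4 : List ℕ := [3, 2, 0, 5, 0, 1, 1]

def conjW5 : List ℕ := [2, 0, 5, 0, 1, 1]

def conjW6 : List ℕ := [0, 1, 3, 2, 0, 5]

def conjW7 : List ℕ := [5, 4, 0, 5, 3, 5]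

def conjW8 : List ℕ := [5, 4, 3, 5, 4, 0, 4]

/-- the conjugating words -/
def conjW (x : Gen) : List ℕ := Gen.rec (motive := fun _ => List ℕ) conjW0 conjW1 conjW2 conjW3 conjW4 conjW5 conjW6 conjW7 conjW8 x

def alW0 : List Gen := [Gen.f, Gen.e, Gen.c, Gen.d, Gen.h, Gen.i, Gen.h, Gen.d, Gen.e, Gen.c, Gen.d, Gen.h, Gen.g, Gen.f, Gen.e, Gen.d, Gen.c, Gen.a, Gen.b, Gen.c, Gen.d, Gen.h, Gen.i, Gen.e, Gen.f, Gen.b, Gen.a, Gen.c, Gen.b, Gen.d, Gen.c, Gen.e, Gen.d, Gen.h, Gen.d, Gen.e, Gen.c, Gen.d, Gen.b, Gen.c, Gen.a, Gen.b, Gen.c, Gen.a, Gen.c, Gen.d, Gen.b, Gen.a, Gen.c, Gen.b, Gen.d, Gen.c, Gen.e, Gen.d, Gen.h, Gen.d, Gen.e, Gen.c, Gen.d, Gen.b, Gen.c, Gen.a, Gen.b, Gen.h, Gen.e, Gen.d, Gen.c, Gen.d, Gen.h, Gen.e, Gen.i, Gen.g,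 Gen.f]

def alW1 : List Gen := [Gen.e, Gen.b, Gen.c, Gen.d, Gen.h, Gen.i, Gen.f, Gen.e, Gen.b, Gen.c, Gen.d, Gen.h, Gen.g, Gen.f, Gen.e, Gen.d, Gen.c, Gen.b, Gen.i, Gen.f, Gen.b, Gen.a, Gen.c, Gen.b, Gen.d, Gen.c, Gen.e, Gen.d, Gen.h, Gen.d, Gen.e, Gen.c, Gen.d, Gen.b, Gen.c, Gen.a, Gen.b, Gen.d, Gen.c, Gen.a, Gen.i, Gen.f, Gen.a, Gen.c, Gen.d, Gen.b, Gen.a, Gen.c, Gen.b, Gen.d, Gen.c, Gen.e, Gen.d, Gen.h, Gen.d, Gen.e, Gen.c, Gen.d, Gen.b, Gen.c, Gen.a, Gen.b, Gen.h, Gen.e, Gen.d, Gen.c, Gen.i, Gen.f, Gen.a, Gen.c, Gen.d, Gen.b, Gen.a, Gen.c, Gen.b, Gen.d, Gen.c, Gen.e, Gen.d, Gen.h, Gen.d, Gen.e, Gen.c, Gen.d, Gen.b, Gen.c, Gen.a, Gen.b, Gen.h, Gen.e, Gen.d, Gen.c, Gen.g, Gen.f, Gen.e]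

def alW2 : List Gen := [Gen.e, Gen.d, Gen.h, Gen.i, Gen.d, Gen.e, Gen.c, Gen.d, Gen.h, Gen.g, Gen.f, Gen.e, Gen.d, Gen.c, Gen.a, Gen.c, Gen.b, Gen.d, Gen.c, Gen.e, Gen.d, Gen.h, Gen.d, Gen.e, Gen.c, Gen.d, Gen.b, Gen.c, Gen.a, Gen.b, Gen.c, Gen.d, Gen.b, Gen.a, Gen.c, Gen.b, Gen.d, Gen.c, Gen.e, Gen.d, Gen.h, Gen.d, Gen.e, Gen.c, Gen.d, Gen.b, Gen.c, Gen.a, Gen.b, Gen.h, Gen.e, Gen.d, Gen.c, Gen.i, Gen.f, Gen.a, Gen.c, Gen.d, Gen.b, Gen.a, Gen.c, Gen.b, Gen.d, Gen.c, Gen.e, Gen.d, Gen.h, Gen.d, Gen.e, Gen.c, Gen.d, Gen.b, Gen.c, Gen.a, Gen.b, Gen.h, Gen.e, Gen.d, Gen.c, Gen.e, Gen.h, Gen.a, Gen.c, Gen.d, Gen.b, Gen.a, Gen.c, Gen.b, Gen.d, Gen.c, Gen.e, Gen.d, Gen.h, Gen.d, Gen.e, Gen.c, Gen.d, Gen.b, Gen.c, Gen.a, Gen.b,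 Gen.h, Gen.e, Gen.d, Gen.c, Gen.d, Gen.h, Gen.e, Gen.g]

def alW3 : List Gen := [Gen.a, Gen.b, Gen.c, Gen.d, Gen.h, Gen.i, Gen.h, Gen.f, Gen.d, Gen.e, Gen.c, Gen.d, Gen.h, Gen.g, Gen.f, Gen.e, Gen.d, Gen.c, Gen.b, Gen.c, Gen.d, Gen.h, Gen.i, Gen.e, Gen.f, Gen.b, Gen.a, Gen.c, Gen.b, Gen.d, Gen.c, Gen.e, Gen.d, Gen.h, Gen.d, Gen.e, Gen.c, Gen.d, Gen.b, Gen.c, Gen.a, Gen.b, Gen.c, Gen.a, Gen.i, Gen.f, Gen.a, Gen.c, Gen.d, Gen.b, Gen.a, Gen.c, Gen.b, Gen.d, Gen.c, Gen.e, Gen.d, Gen.h, Gen.d, Gen.e, Gen.c, Gen.d, Gen.b, Gen.c, Gen.a, Gen.b, Gen.h, Gen.e, Gen.d, Gen.c, Gen.i, Gen.f, Gen.a, Gen.c, Gen.d, Gen.b, Gen.a, Gen.c, Gen.b, Gen.d, Gen.c, Gen.e, Gen.d, Gen.h, Gen.d, Gen.e, Gen.c, Gen.d, Gen.b, Gen.c, Gen.a, Gen.b, Gen.h,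 Gen.e, Gen.d, Gen.c, Gen.d, Gen.f, Gen.d, Gen.c, Gen.d, Gen.e, Gen.h, Gen.b, Gen.a, Gen.c, Gen.b, Gen.d, Gen.c, Gen.e, Gen.d, Gen.h, Gen.d, Gen.e, Gen.c, Gen.d, Gen.b, Gen.c, Gen.a, Gen.b, Gen.d, Gen.c, Gen.a, Gen.h, Gen.e, Gen.d, Gen.i, Gen.d, Gen.c, Gen.d, Gen.e, Gen.h, Gen.b, Gen.a, Gen.c, Gen.b, Gen.d, Gen.c, Gen.e, Gen.d, Gen.h, Gen.d, Gen.e, Gen.c, Gen.d, Gen.b, Gen.c, Gen.a, Gen.b, Gen.d, Gen.c, Gen.a, Gen.h, Gen.e, Gen.d, Gen.f, Gen.e, Gen.d, Gen.e, Gen.h, Gen.a, Gen.c, Gen.d, Gen.b, Gen.a, Gen.c, Gen.b, Gen.d, Gen.c, Gen.e, Gen.d, Gen.h, Gen.d, Gen.e, Gen.c, Gen.d, Gen.b, Gen.c, Gen.a, Gen.b, Gen.h, Gen.e, Gen.d, Gen.c, Gen.d, Gen.h, Gen.e, Gen.i, Gen.f, Gen.d, Gen.e, Gen.h, Gen.a, Gen.c, Gen.d, Gen.b, Gen.a, Gen.c,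 Gen.b, Gen.d, Gen.c, Gen.e, Gen.d, Gen.h, Gen.d, Gen.e, Gen.c, Gen.d, Gen.b, Gen.c, Gen.a, Gen.b, Gen.h, Gen.e, Gen.d, Gen.c, Gen.d, Gen.h, Gen.e, Gen.g, Gen.f, Gen.g]

def alW4 : List Gen := [Gen.f, Gen.e, Gen.d, Gen.h, Gen.i, Gen.c, Gen.d, Gen.h, Gen.g, Gen.f, Gen.e, Gen.d, Gen.c, Gen.a, Gen.c, Gen.b, Gen.d, Gen.c, Gen.e, Gen.d, Gen.h, Gen.d, Gen.e, Gen.c, Gen.d, Gen.b, Gen.c, Gen.a, Gen.b, Gen.c, Gen.d, Gen.b, Gen.a, Gen.c, Gen.b, Gen.d, Gen.c, Gen.e, Gen.d, Gen.h, Gen.d, Gen.e, Gen.c, Gen.d, Gen.b, Gen.c, Gen.a, Gen.b, Gen.h, Gen.e, Gen.d, Gen.c, Gen.i, Gen.h, Gen.d, Gen.f, Gen.e, Gen.g, Gen.f]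

def alW5 : List Gen := [Gen.e, Gen.d, Gen.h, Gen.g, Gen.f, Gen.e, Gen.d, Gen.c, Gen.a, Gen.b, Gen.d, Gen.b, Gen.a, Gen.c, Gen.b, Gen.d, Gen.c, Gen.e, Gen.d, Gen.h, Gen.d, Gen.e, Gen.c, Gen.d, Gen.b, Gen.c, Gen.a, Gen.b, Gen.h, Gen.e, Gen.d, Gen.c, Gen.d, Gen.c, Gen.d, Gen.e, Gen.h, Gen.b, Gen.a, Gen.c, Gen.b, Gen.d, Gen.c, Gen.e, Gen.d, Gen.h, Gen.d, Gen.e, Gen.c, Gen.d, Gen.b, Gen.c, Gen.a, Gen.b, Gen.d, Gen.c, Gen.a, Gen.h, Gen.e, Gen.d, Gen.f, Gen.e, Gen.g]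

def alW6 : List Gen := [Gen.i, Gen.h, Gen.d, Gen.e, Gen.f, Gen.c, Gen.d, Gen.e, Gen.b, Gen.c, Gen.d, Gen.h, Gen.i, Gen.f, Gen.c, Gen.d, Gen.e, Gen.b, Gen.c, Gen.d, Gen.h, Gen.g, Gen.f, Gen.e, Gen.d, Gen.c, Gen.b, Gen.e, Gen.f, Gen.b, Gen.a, Gen.c, Gen.b, Gen.d, Gen.c, Gen.e, Gen.d, Gen.h, Gen.d, Gen.e, Gen.c, Gen.d, Gen.b, Gen.c, Gen.a, Gen.b, Gen.d, Gen.h, Gen.i, Gen.g, Gen.e, Gen.f, Gen.b, Gen.a, Gen.c, Gen.b, Gen.d, Gen.c, Gen.e, Gen.d, Gen.h, Gen.d, Gen.e, Gen.c, Gen.d, Gen.b, Gen.c, Gen.a, Gen.b, Gen.c, Gen.g, Gen.e, Gen.f, Gen.a, Gen.c, Gen.d, Gen.b, Gen.a, Gen.c, Gen.b, Gen.d, Gen.c, Gen.e, Gen.d, Gen.h, Gen.d, Gen.e, Gen.c, Gen.d, Gen.b, Gen.c, Gen.a, Gen.b, Gen.h, Gen.e, Gen.d, Gen.c, Gen.i, Gen.g, Gen.f, Gen.a,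 Gen.c, Gen.d, Gen.b, Gen.a, Gen.c, Gen.b, Gen.d, Gen.c, Gen.e, Gen.d, Gen.h, Gen.d, Gen.e, Gen.c, Gen.d, Gen.b, Gen.c, Gen.a, Gen.b, Gen.h, Gen.e, Gen.d, Gen.c, Gen.d, Gen.h, Gen.i, Gen.d, Gen.c, Gen.d, Gen.e, Gen.h, Gen.b, Gen.a, Gen.c, Gen.b, Gen.d, Gen.c, Gen.e, Gen.d, Gen.h, Gen.d, Gen.e, Gen.c, Gen.d, Gen.b, Gen.c, Gen.a, Gen.b, Gen.d, Gen.c, Gen.a, Gen.h, Gen.e, Gen.d, Gen.g, Gen.f, Gen.e, Gen.d, Gen.e, Gen.h, Gen.a, Gen.c, Gen.d, Gen.b, Gen.a, Gen.c, Gen.b, Gen.d, Gen.c, Gen.e, Gen.d, Gen.h, Gen.d, Gen.e, Gen.c, Gen.d, Gen.b, Gen.c, Gen.a, Gen.b, Gen.h, Gen.e, Gen.d, Gen.c, Gen.d, Gen.h, Gen.e, Gen.i, Gen.f, Gen.d, Gen.e, Gen.h, Gen.a, Gen.c, Gen.d, Gen.b, Gen.a, Gen.c, Gen.b, Gen.d, Gen.c, Gen.e, Gen.d, Gen.h, Gen.d,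 Gen.e, Gen.c, Gen.d, Gen.b, Gen.c, Gen.a, Gen.b, Gen.h, Gen.e, Gen.d, Gen.c, Gen.d, Gen.h, Gen.e, Gen.g, Gen.f, Gen.g]

def alW7 : List Gen := [Gen.h, Gen.e, Gen.f, Gen.c, Gen.d, Gen.e, Gen.b, Gen.c, Gen.d, Gen.h, Gen.i, Gen.d, Gen.e, Gen.b, Gen.c, Gen.d, Gen.h, Gen.g, Gen.f, Gen.e, Gen.d, Gen.c, Gen.a, Gen.c, Gen.b, Gen.d, Gen.c, Gen.e, Gen.d, Gen.h, Gen.d, Gen.e, Gen.c, Gen.d, Gen.b, Gen.c, Gen.a, Gen.b, Gen.i, Gen.f, Gen.b, Gen.a, Gen.c, Gen.b, Gen.d, Gen.c, Gen.e, Gen.d, Gen.h, Gen.d, Gen.e, Gen.c, Gen.d, Gen.b, Gen.c, Gen.a, Gen.b, Gen.c, Gen.i, Gen.f, Gen.h, Gen.e, Gen.d, Gen.i, Gen.f, Gen.d, Gen.c, Gen.d, Gen.e, Gen.h, Gen.b, Gen.a, Gen.c, Gen.b, Gen.d, Gen.c, Gen.e, Gen.d, Gen.h, Gen.d, Gen.e, Gen.c, Gen.d, Gen.b,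 Gen.c, Gen.a, Gen.b, Gen.d, Gen.c, Gen.a, Gen.h, Gen.e, Gen.d, Gen.g, Gen.f, Gen.h, Gen.e]

def alW8 : List Gen := [Gen.d, Gen.h, Gen.i, Gen.f, Gen.e, Gen.d, Gen.h, Gen.c, Gen.d, Gen.e, Gen.a, Gen.b, Gen.c, Gen.d, Gen.h, Gen.i, Gen.d, Gen.e, Gen.f, Gen.c, Gen.d, Gen.e, Gen.b, Gen.c, Gen.d, Gen.h, Gen.g, Gen.f, Gen.e, Gen.d, Gen.c, Gen.b, Gen.i, Gen.h, Gen.c, Gen.d, Gen.e, Gen.f, Gen.b, Gen.a, Gen.c, Gen.b, Gen.d, Gen.c, Gen.e, Gen.d, Gen.h, Gen.d, Gen.e, Gen.c, Gen.d, Gen.b, Gen.c, Gen.a, Gen.b, Gen.i, Gen.g, Gen.f, Gen.b, Gen.a, Gen.c, Gen.b, Gen.d, Gen.c, Gen.e, Gen.d, Gen.h, Gen.d, Gen.e, Gen.c, Gen.d, Gen.b, Gen.c, Gen.a, Gen.b, Gen.d, Gen.c, Gen.a, Gen.c, Gen.d, Gen.b, Gen.a, Gen.c, Gen.b, Gen.d, Gen.c, Gen.e, Gen.d,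 Gen.h, Gen.d, Gen.e, Gen.c, Gen.d, Gen.b, Gen.c, Gen.a, Gen.b, Gen.h, Gen.e, Gen.d, Gen.c, Gen.e, Gen.f, Gen.a, Gen.c, Gen.d, Gen.b, Gen.a, Gen.c, Gen.b, Gen.d, Gen.c, Gen.e, Gen.d, Gen.h, Gen.d, Gen.e, Gen.c, Gen.d, Gen.b, Gen.c, Gen.a, Gen.b, Gen.h, Gen.e, Gen.d, Gen.c, Gen.i, Gen.g, Gen.f, Gen.a, Gen.c, Gen.d, Gen.b, Gen.a, Gen.c, Gen.b, Gen.d, Gen.c, Gen.e, Gen.d, Gen.h, Gen.d, Gen.e, Gen.c, Gen.d, Gen.b, Gen.c, Gen.a, Gen.b, Gen.h, Gen.e, Gen.d, Gen.c, Gen.d, Gen.h, Gen.i, Gen.d, Gen.c, Gen.d, Gen.e, Gen.h, Gen.b, Gen.a, Gen.c, Gen.b, Gen.d, Gen.c, Gen.e, Gen.d, Gen.h, Gen.d, Gen.e, Gen.c, Gen.d, Gen.b, Gen.c, Gen.a, Gen.b, Gen.d, Gen.c, Gen.a, Gen.h, Gen.e, Gen.d, Gen.f, Gen.d, Gen.c, Gen.d, Gen.e, Gen.h, Gen.b, Gen.a,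 Gen.c, Gen.b, Gen.d, Gen.c, Gen.e, Gen.d, Gen.h, Gen.d, Gen.e, Gen.c, Gen.d, Gen.b, Gen.c, Gen.a, Gen.b, Gen.d, Gen.c, Gen.a, Gen.h, Gen.e, Gen.d, Gen.g, Gen.f, Gen.e, Gen.i, Gen.d, Gen.e, Gen.h, Gen.a, Gen.c, Gen.d, Gen.b, Gen.a, Gen.c, Gen.b, Gen.d, Gen.c, Gen.e, Gen.d, Gen.h, Gen.d, Gen.e, Gen.c, Gen.d, Gen.b, Gen.c, Gen.a, Gen.b, Gen.h, Gen.e, Gen.d, Gen.c, Gen.d, Gen.h, Gen.e, Gen.g, Gen.f, Gen.i, Gen.d, Gen.e, Gen.h, Gen.a, Gen.c, Gen.d, Gen.b, Gen.a, Gen.c, Gen.b, Gen.d, Gen.c, Gen.e, Gen.d, Gen.h, Gen.d, Gen.e, Gen.c, Gen.d, Gen.b, Gen.c, Gen.a, Gen.b, Gen.h, Gen.e, Gen.d, Gen.c, Gen.d, Gen.h, Gen.e, Gen.i]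

/-- the images of the generators under the outer automorphism -/
def alW (x : Gen) : List Gen := Gen.rec (motive := fun _ => List Gen) alW0 alW1 alW2 alW3 alW4 alW5 alW6 alW7 alW8 x

end

end Cfsg.Agent.Lib.Helper28.Fi22Out
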