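/-
Kernel checks for the centralizer of the element `u` of order 6 of the presented Fischer group Fi22
and for the rigidity of the triple `(y, u, s)`.
-/
import Cfsg.Agent.Lib.Helper28.Fi22Out.CentYChk
import Cfsg.Agent.Lib.Helper28.Fi22Out.GenData

set_option autoImplicit false
set_option maxRecDepth 100000

namespace Cfsg.Agent.Lib.Helper28.Fi22Out

open Cfsg.Spor.Fi22 (Gen)
open Cfsg.Agent.Lib.Helper28.TC
open Cfsg.Agent.Lib.Helper28.Ord
open Cfsg.Agent.Lib.Helper28.Sift
open Cfsg.Agent.Lib.Helper28.Fi22x3510 (tf nn rels T hrel hinv nn_pos)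
open Cfsg.Agent.Lib.Helper28.Fi22Ord (phi phi_injective card_Fi22 finite_Fi22)

noncomputable section

/-- the element of order 3 commuting with `u` -/
def sE : GF := we sw

/-- the relation words `x³`, `(y y x)¹¹`, `(y x)²²` and `(y y u x)¹²` -/
def rel1 (w : List Gen) : List Gen := wrep 3 w
def rel2 (w : List Gen) : List Gen := wrep 11 (yw ++ yw ++ w)
def rel3 (w : List Gen) : List Gen := wrep 22 (yw ++ w)
def rel4 (w : List Gen) : List Gen := wrep 12 (yw ++ yw ++ uw ++ w)

/-- the test for the image of `s`: the word does not commute with `u`, or is `s`, or violates one of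
the four relations -/
def PU (w : List Gen) : Bool :=
  bor (bnot (wEq (w ++ uw) (uw ++ w))) (bor (wEq w sw) (bor (bnot (isId (rel1 w)))
    (bor (bnot (isId (rel2 w))) (bor (bnot (isId (rel3 w))) (bnot (isId (rel4 w)))))))

def chkU (q : ℕ) : Bool := siftP tf PU LsU (orbList tf uw 6 q) []

theorem chkU_blk0 : allRange (guard nn chkU) 10 (0 * 2 ^ 10) = true := by decide +kernel
theorem chkU_blk1 : allRange (guard nn chkU) 10 (1 * 2 ^ 10) = true := by decide +kernel
theorem chkU_blk2 : allRange (guard nn chkU) 10 (2 * 2 ^ 10) = true := by decide +kernel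
theorem chkU_blk3 : allRange (guard nn chkU) 10 (3 * 2 ^ 10) = true := by decide +kernel

theorem chkU_all : ∀ i, i < nn → chkU i = true := by
  refine all_of_blocks nn chkU 10 4 (by decide) ?_
  intro k hk
  interval_cases k
  · exact chkU_blk0
  · exact chkU_blk1
  · exact chkU_blk2
  · exact chkU_blk3

theorem su_chk : wEq (sw ++ uw) (uw ++ sw) = true := by decide +kernel
theorem r1_chk : isId (rel1 sw) = true := by decide +kernel
theorem r2_chk : isId (rel2 sw) = true := by decide +kernel
theorem r3_chk : isId (rel3 sw) = true := by decide +kernel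
theorem r4_chk : isId (rel4 sw) = true := by decide +kernel

/-- the letters `y, u, s, y⁻¹, u⁻¹, s⁻¹` -/
def lw (c : ℕ) : List Gen := nthD [yw, uw, sw, yw.reverse, uw.reverse, sw.reverse] c []

/-- the flattened word -/
def flatS (code : List ℕ) : List Gen := List.rec [] (fun c _ ih => lw c ++ ih) code

/-- the transposition `(y s)¹¹` -/
def d0w : List Gen := wrep 11 (yw ++ sw)

/-- the generator `x` is the conjugate of `(y s)¹¹` by the word `conjW x` -/
def genChk (x : Gen) : Bool :=
  wEq (flatS (conjW x) ++ d0w ++ (flatS (conjW x)).reverse) [x]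

theorem genChk_all (x : Gen) : genChk x = true := by
  cases x <;> decide +kernel

end

end Cfsg.Agent.Lib.Helper28.Fi22Out
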