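/-
An automorphism of the presented Fischer group Fi22 fixing the element `y` of order 13 is inner.
-/
import Cfsg.Agent.Lib.Helper28.Fi22Out.CentUChk
import Cfsg.Agent.Lib.Helper28.Fi22Out.CentY
import Cfsg.Prelude.Def_KGroupFacts

set_option autoImplicit false
set_option maxRecDepth 100000

namespace Cfsg.Agent.Lib.Helper28.Fi22Out

open Cfsg.Spor.Fi22 (Gen)
open Cfsg.Agent.Lib.Helper28.TC
open Cfsg.Agent.Lib.Helper28.Ord
open Cfsg.Agent.Lib.Helper28.Sift
open Cfsg.Agent.Lib.Helper28.Fi22x3510 (tf nn rels T hrel hinv nn_pos)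
open Cfsg.Agent.Lib.Helper28.Fi22Ord (phi phi_injective card_Fi22 finite_Fi22)

noncomputable section

theorem we_wrep (k : ℕ) (w : List Gen) : we (wrep k w) = we w ^ k := wval_wrep _ _ _

theorem s_comm_u : sE * uE = uE * sE := by
  have h := (wEq_iff _ _).1 su_chk
  rw [we_append, we_append] at h
  exact h

theorem we_rel1 (w : List Gen) : we (rel1 w) = we w ^ 3 := we_wrep _ _

theorem we_rel2 (w : List Gen) : we (rel2 w) = (yE * yE * we w) ^ 11 := by
  unfold rel2
  rw [we_wrep, we_append, we_append]
  rfl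

theorem we_rel3 (w : List Gen) : we (rel3 w) = (yE * we w) ^ 22 := by
  unfold rel3
  rw [we_wrep, we_append]
  rfl

theorem we_rel4 (w : List Gen) : we (rel4 w) = (yE * yE * uE * we w) ^ 12 := by
  unfold rel4
  rw [we_wrep, we_append, we_append, we_append]
  rfl

theorem s_rel1 : sE ^ 3 = 1 := by
  have h := (isId_iff _).1 r1_chk
  rw [we_rel1] at h
  exact h

theorem s_rel2 : (yE * yE * sE) ^ 11 = 1 := by
  have h := (isId_iff _).1 r2_chk
  rw [we_rel2] at h
  exact h

theorem s_rel3 : (yE * sE) ^ 22 = 1 := by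
  have h := (isId_iff _).1 r3_chk
  rw [we_rel3] at h
  exact h

theorem s_rel4 : (yE * yE * uE * sE) ^ 12 = 1 := by
  have h := (isId_iff _).1 r4_chk
  rw [we_rel4] at h
  exact h

/-- an automorphism fixing `y` and `u` fixes `s` -/
theorem elim_main (β : MulAut GF) (hy : β yE = yE) (hu : β uE = uE) : β sE = sE := by
  have hc : β sE * wval (pval rels) uw = wval (pval rels) uw * β sE := by
    show β sE * uE = uE * β sE
    rw [← hu, ← map_mul, ← map_mul, s_comm_u]
  obtain ⟨q, hq, w, hw0, hs⟩ := conj_cover T hrel phi_injective nn_pos LsU hokU hexU uw uw 105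
    (by decide) rootsU (β sE) hc
  have hw : β sE = we w := hw0
  have h1 : PU w = true := by
    rw [← hs PU]
    exact chkU_all q hq
  unfold PU at h1
  rw [bor_eq_true, bor_eq_true, bor_eq_true, bor_eq_true, bor_eq_true, bnot_eq_true, bnot_eq_true,
    bnot_eq_true, bnot_eq_true, bnot_eq_true] at h1
  rcases h1 with h1 | h1 | h1 | h1 | h1 | h1
  · exfalso
    have h2 : wEq (w ++ uw) (uw ++ w) = true := by
      rw [wEq_iff, we_append, we_append, ← hw]
      exact hc
    rw [h2] at h1
    cases h1
  · rw [wEq_iff] at h1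
    rw [hw, h1]
    rfl
  · exfalso
    have h2 : isId (rel1 w) = true := by
      rw [isId_iff, we_rel1, ← hw, ← map_pow, s_rel1, map_one]
    rw [h2] at h1
    cases h1
  · exfalso
    have h2 : isId (rel2 w) = true := by
      rw [isId_iff, we_rel2, ← hw]
      have : yE * yE * β sE = β (yE * yE * sE) := by
        rw [map_mul, map_mul, hy]
      rw [this, ← map_pow, s_rel2, map_one]
    rw [h2] at h1
    cases h1
  · exfalso
    have h2 : isId (rel3 w) = true := by
      rw [isId_iff, we_rel3, ← hw]
      have : yE * β sE = β (yE * sE) := by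
        rw [map_mul, hy]
      rw [this, ← map_pow, s_rel3, map_one]
    rw [h2] at h1
    cases h1
  · exfalso
    have h2 : isId (rel4 w) = true := by
      rw [isId_iff, we_rel4, ← hw]
      have : yE * yE * uE * β sE = β (yE * yE * uE * sE) := by
        rw [map_mul, map_mul, map_mul, hy, hu]
      rw [this, ← map_pow, s_rel4, map_one]
    rw [h2] at h1
    cases h1

/-! ### The generators are conjugates of `(y s)¹¹` by words in `y, u, s` -/

theorem flatS_nil : flatS [] = [] := rfl

theorem flatS_cons (c : ℕ) (code : List ℕ) : flatS (c :: code) = lw c ++ flatS code := rfl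

theorem lw_fix (β : MulAut GF) (hy : β yE = yE) (hu : β uE = uE) (hs : β sE = sE) (c : ℕ) :
    β (we (lw c)) = we (lw c) := by
  unfold lw
  match c with
  | 0 => exact hy
  | 1 => exact hu
  | 2 => exact hs
  | 3 =>
    show β (we yw.reverse) = we yw.reverse
    rw [we_reverse, map_inv]
    exact congrArg _ hy
  | 4 =>
    show β (we uw.reverse) = we uw.reverse
    rw [we_reverse, map_inv]
    exact congrArg _ hu
  | 5 =>
    show β (we sw.reverse) = we sw.reverse
    rw [we_reverse, map_inv]
    exact congrArg _ hs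
  | (k + 6) =>
    show β (we []) = we []
    rw [we_nil, map_one]

theorem flatS_fix (β : MulAut GF) (hy : β yE = yE) (hu : β uE = uE) (hs : β sE = sE)
    (code : List ℕ) : β (we (flatS code)) = we (flatS code) := by
  induction code with
  | nil => rw [flatS_nil, we_nil, map_one]
  | cons c code ih => rw [flatS_cons, we_append, map_mul, ih, lw_fix β hy hu hs]

theorem gen_eq (x : Gen) :
    pval rels x = we (flatS (conjW x)) * (yE * sE) ^ 11 * (we (flatS (conjW x)))⁻¹ := by
  have h1 := (wEq_iff _ _).1 (genChk_all x)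
  have h2 : we [x] = pval rels x := by
    unfold we
    rw [wval_cons, wval_nil, mul_one]
  have h3 : we d0w = (yE * sE) ^ 11 := by
    unfold d0w
    rw [we_wrep, we_append]
    rfl
  rw [h2, we_append, we_append, we_reverse, h3] at h1
  exact h1.symm

/-- an automorphism fixing `y`, `u` and `s` is trivial -/
theorem eq_one_of_fix (β : MulAut GF) (hy : β yE = yE) (hu : β uE = uE) (hs : β sE = sE) :
    β = 1 := by
  have hgen : ∀ x : Gen, β (pval rels x) = pval rels x := by
    intro x
    rw [gen_eq x, map_mul, map_mul, map_inv, map_pow, map_mul, hy, hs, flatS_fix β hy hu hs]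
  have h2 : (β : GF →* GF) = MonoidHom.id GF := by
    apply PresentedGroup.ext
    intro x
    exact hgen x
  apply MulEquiv.ext
  intro g
  have := congrArg (fun f : GF →* GF => f g) h2
  exact this

theorem u_pow_comm (k : ℕ) : uE * yE ^ k = yE ^ (4 * k) * uE := by
  have h1 : uE * yE = yE ^ 4 * uE := by
    have := uyu
    rw [mul_inv_eq_iff_eq_mul] at this
    exact this
  induction k with
  | zero => simp
  | succ k ih =>
    rw [pow_succ, ← mul_assoc, ih, mul_assoc, h1, ← mul_assoc, ← pow_add]
    congr 1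

theorem y_pow13 : yE ^ 13 = 1 := by
  rw [← orderOf_y]
  exact pow_orderOf_eq_one yE

/-- an automorphism fixing `y` is inner -/
theorem rigid (β : MulAut GF) (hβ : β yE = yE) : β ∈ Cfsg.Inn GF := by
  -- `u⁻¹ β(u)` centralizes `y`
  have h1 : β uE * yE * (β uE)⁻¹ = yE ^ 4 := by
    have := congrArg β uyu
    rwa [map_mul, map_mul, map_inv, map_pow, hβ] at this
  set c := uE⁻¹ * β uE with hc
  have hcy : c * yE = yE * c := by
    have e1 : β uE * yE = yE ^ 4 * β uE := by
      rw [mul_inv_eq_iff_eq_mul] at h1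
      exact h1
    have e2 : uE * yE = yE ^ 4 * uE := by
      have := uyu
      rw [mul_inv_eq_iff_eq_mul] at this
      exact this
    have e3 : uE⁻¹ * yE ^ 4 = yE * uE⁻¹ := by
      rw [inv_mul_eq_iff_eq_mul, ← mul_assoc, e2, mul_assoc, mul_inv_cancel, mul_one]
    rw [hc, mul_assoc, e1, ← mul_assoc, e3, mul_assoc]
  have hmem := cent_y c hcy
  rw [← mem_powers_iff_mem_zpowers] at hmem
  obtain ⟨m, hm⟩ := hmem
  have hm' : yE ^ m = c := hm
  have hu' : β uE = uE * yE ^ m := by rw [hm', hc, mul_inv_cancel_left]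
  set β' : MulAut GF := MulAut.conj (yE ^ (10 * m)) * β with hβ'
  have hy' : β' yE = yE := by
    rw [hβ', MulAut.mul_apply, hβ, MulAut.conj_apply]
    rw [← pow_succ, pow_succ', mul_assoc, mul_inv_cancel, mul_one]
  have hu'' : β' uE = uE := by
    have e3 : yE ^ (4 * (10 * m)) = yE ^ (10 * m + 4 * m) := by
      have e2 : 4 * (10 * m) = (10 * m + 4 * m) + 13 * (2 * m) := by ring
      rw [e2, pow_add yE (10 * m + 4 * m), pow_mul yE 13, y_pow13, one_pow, mul_one]
    have e1 : yE ^ (10 * m) * (uE * yE ^ m) = uE * yE ^ (10 * m) := by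
      rw [u_pow_comm m, u_pow_comm (10 * m), ← mul_assoc, ← pow_add, e3]
    rw [hβ', MulAut.mul_apply, hu', MulAut.conj_apply, e1, mul_assoc, mul_inv_cancel, mul_one]
  have hs' := elim_main β' hy' hu''
  have h1' := eq_one_of_fix β' hy' hu'' hs'
  have : β = (MulAut.conj (yE ^ (10 * m)))⁻¹ :=
    eq_inv_of_mul_eq_one_right (by rw [← hβ', h1'])
  rw [this]
  exact (Cfsg.Inn GF).inv_mem ⟨yE ^ (10 * m), rfl⟩

end

end Cfsg.Agent.Lib.Helper28.Fi22Out
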